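import Cfsg.Agent.Comp.PG
import Cfsg.Agent.Yo.TCD

set_option autoImplicit false
set_option maxRecDepth 1000000
set_option maxHeartbeats 0
set_option Elab.async false

namespace CF.Yo

open CF.Comp

theorem ee2_all : Cov ee2_F 4 3 0 := by
  have h := Cov.zero ee2_F 4
  have h := h.blk (b := 4) ee2_k0_0 rfl
  have h := h.next (y := 1) rfl rfl
  have h := h.blk (b := 4) ee2_k1_0 rfl
  have h := h.next (y := 2) rfl rfl
  have h := h.blk (b := 4) ee2_k2_0 rfl
  have h := h.next (y := 3) rfl rfl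
  exact h

theorem ee2 : Enum Re2 [] (gensW 2) 4 :=
  ⟨ee2_cols, ee2_ch, ee2_L, ee2_H, ee2_pb.1, ee2_e.get, [(nat_lit 0), (nat_lit 1), (nat_lit 3)], (nat_lit 3), (nat_lit 2), ee2_rots, ee2_hcs,
    (nat_lit 5), (nat_lit 3), (nat_lit 8), (nat_lit 8), (nat_lit 64), (nat_lit 511), (nat_lit 8), (nat_lit 255), (nat_lit 9), (nat_lit 511), (nat_lit 1), (nat_lit 4),
    fun _ _ => rfl, fun _ => rfl, fun _ _ => rfl, by decide +kernel, ee2_all.1⟩

theorem ee3_all : Cov ee3_F 4 4 0 := by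
  have h := Cov.zero ee3_F 4
  have h := h.blk (b := 4) ee3_k0_0 rfl
  have h := h.next (y := 1) rfl rfl
  have h := h.blk (b := 4) ee3_k1_0 rfl
  have h := h.next (y := 2) rfl rfl
  have h := h.blk (b := 4) ee3_k2_0 rfl
  have h := h.next (y := 3) rfl rfl
  have h := h.blk (b := 4) ee3_k3_0 rfl
  have h := h.next (y := 4) rfl rfl
  exact h

theorem ee3 : Enum Re3 (gensW 2) (gensW 3) 6 :=
  ⟨ee3_cols, ee3_ch, ee3_L, ee3_H, ee3_pb.1, ee3_e.get, [(nat_lit 0), (nat_lit 1), (nat_lit 3), (nat_lit 5)], (nat_lit 7), (nat_lit 3), ee3_rots, ee3_hcs,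
    (nat_lit 7), (nat_lit 4), (nat_lit 8), (nat_lit 16), (nat_lit 128), (nat_lit 511), (nat_lit 8), (nat_lit 255), (nat_lit 10), (nat_lit 1023), (nat_lit 1), (nat_lit 4),
    fun _ _ => rfl, fun _ => rfl, fun _ _ => rfl, by decide +kernel, ee3_all.1⟩

theorem ee4_all : Cov ee4_F 4 5 0 := by
  have h := Cov.zero ee4_F 4
  have h := h.blk (b := 4) ee4_k0_0 rfl
  have h := h.next (y := 1) rfl rfl
  have h := h.blk (b := 4) ee4_k1_0 rfl
  have h := h.next (y := 2) rfl rfl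
  have h := h.blk (b := 4) ee4_k2_0 rfl
  have h := h.next (y := 3) rfl rfl
  have h := h.blk (b := 4) ee4_k3_0 rfl
  have h := h.next (y := 4) rfl rfl
  have h := h.blk (b := 4) ee4_k4_0 rfl
  have h := h.next (y := 5) rfl rfl
  exact h

theorem ee4 : Enum Re4 (gensW 3) (gensW 4) 8 :=
  ⟨ee4_cols, ee4_ch, ee4_L, ee4_H, ee4_pb.1, ee4_e.get, [(nat_lit 0), (nat_lit 1), (nat_lit 3), (nat_lit 5), (nat_lit 7)], (nat_lit 15), (nat_lit 4), ee4_rots, ee4_hcs,
    (nat_lit 9), (nat_lit 5), (nat_lit 16), (nat_lit 32), (nat_lit 512), (nat_lit 1023), (nat_lit 8), (nat_lit 255), (nat_lit 12), (nat_lit 4095), (nat_lit 1), (nat_lit 4),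
    fun _ _ => rfl, fun _ => rfl, fun _ _ => rfl, by decide +kernel, ee4_all.1⟩

theorem ee5_all : Cov ee5_F 4 6 0 := by
  have h := Cov.zero ee5_F 4
  have h := h.blk (b := 4) ee5_k0_0 rfl
  have h := h.next (y := 1) rfl rfl
  have h := h.blk (b := 4) ee5_k1_0 rfl
  have h := h.next (y := 2) rfl rfl
  have h := h.blk (b := 4) ee5_k2_0 rfl
  have h := h.next (y := 3) rfl rfl
  have h := h.blk (b := 4) ee5_k3_0 rfl
  have h := h.next (y := 4) rfl rfl
  have h := h.blk (b := 4) ee5_k4_0 rfl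
  have h := h.next (y := 5) rfl rfl
  have h := h.blk (b := 4) ee5_k5_0 rfl
  have h := h.next (y := 6) rfl rfl
  exact h

theorem ee5 : Enum Re5 (gensW 4) (gensW 5) 10 :=
  ⟨ee5_cols, ee5_ch, ee5_L, ee5_H, ee5_pb.1, ee5_e.get, [(nat_lit 0), (nat_lit 1), (nat_lit 3), (nat_lit 5), (nat_lit 7), (nat_lit 9)], (nat_lit 31), (nat_lit 5), ee5_rots, ee5_hcs,
    (nat_lit 11), (nat_lit 6), (nat_lit 16), (nat_lit 32), (nat_lit 512), (nat_lit 1023), (nat_lit 8), (nat_lit 255), (nat_lit 13), (nat_lit 8191), (nat_lit 1), (nat_lit 4),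
    fun _ _ => rfl, fun _ => rfl, fun _ _ => rfl, by decide +kernel, ee5_all.1⟩

theorem ee6_all : Cov ee6_F 4 7 0 := by
  have h := Cov.zero ee6_F 4
  have h := h.blk (b := 4) ee6_k0_0 rfl
  have h := h.next (y := 1) rfl rfl
  have h := h.blk (b := 4) ee6_k1_0 rfl
  have h := h.next (y := 2) rfl rfl
  have h := h.blk (b := 4) ee6_k2_0 rfl
  have h := h.next (y := 3) rfl rfl
  have h := h.blk (b := 4) ee6_k3_0 rfl
  have h := h.next (y := 4) rfl rfl
  have h := h.blk (b := 4) ee6_k4_0 rfl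
  have h := h.next (y := 5) rfl rfl
  have h := h.blk (b := 4) ee6_k5_0 rfl
  have h := h.next (y := 6) rfl rfl
  have h := h.blk (b := 4) ee6_k6_0 rfl
  have h := h.next (y := 7) rfl rfl
  exact h

theorem ee6 : Enum Re6 (gensW 5) (gensW 6) 12 :=
  ⟨ee6_cols, ee6_ch, ee6_L, ee6_H, ee6_pb.1, ee6_e.get, [(nat_lit 0), (nat_lit 1), (nat_lit 3), (nat_lit 5), (nat_lit 7), (nat_lit 9), (nat_lit 11)], (nat_lit 63), (nat_lit 6), ee6_rots, ee6_hcs,
    (nat_lit 13), (nat_lit 7), (nat_lit 16), (nat_lit 64), (nat_lit 1024), (nat_lit 1023), (nat_lit 8), (nat_lit 255), (nat_lit 14), (nat_lit 16383), (nat_lit 1), (nat_lit 4),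
    fun _ _ => rfl, fun _ => rfl, fun _ _ => rfl, by decide +kernel, ee6_all.1⟩

theorem ee7_all : Cov ee7_F 4 8 0 := by
  have h := Cov.zero ee7_F 4
  have h := h.blk (b := 4) ee7_k0_0 rfl
  have h := h.next (y := 1) rfl rfl
  have h := h.blk (b := 4) ee7_k1_0 rfl
  have h := h.next (y := 2) rfl rfl
  have h := h.blk (b := 4) ee7_k2_0 rfl
  have h := h.next (y := 3) rfl rfl
  have h := h.blk (b := 4) ee7_k3_0 rfl
  have h := h.next (y := 4) rfl rfl
  have h := h.blk (b := 4) ee7_k4_0 rfl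
  have h := h.next (y := 5) rfl rfl
  have h := h.blk (b := 4) ee7_k5_0 rfl
  have h := h.next (y := 6) rfl rfl
  have h := h.blk (b := 4) ee7_k6_0 rfl
  have h := h.next (y := 7) rfl rfl
  have h := h.blk (b := 4) ee7_k7_0 rfl
  have h := h.next (y := 8) rfl rfl
  exact h

theorem ee7 : Enum Re7 (gensW 6) (gensW 7) 63 :=
  ⟨ee7_cols, ee7_ch, ee7_L, ee7_H, ee7_pb.1, ee7_e.get, [(nat_lit 0), (nat_lit 1), (nat_lit 3), (nat_lit 5), (nat_lit 7), (nat_lit 9), (nat_lit 11), (nat_lit 13)], (nat_lit 127), (nat_lit 7), ee7_rots, ee7_hcs,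
    (nat_lit 64), (nat_lit 8), (nat_lit 64), (nat_lit 64), (nat_lit 4096), (nat_lit 4095), (nat_lit 8), (nat_lit 255), (nat_lit 16), (nat_lit 65535), (nat_lit 1), (nat_lit 4),
    fun _ _ => rfl, fun _ => rfl, fun _ _ => rfl, by decide +kernel, ee7_all.1⟩

theorem ea5_all : Cov ea5_F 4 7 0 := by
  have h := Cov.zero ea5_F 4
  have h := h.blk (b := 4) ea5_k0_0 rfl
  have h := h.next (y := 1) rfl rfl
  have h := h.blk (b := 4) ea5_k1_0 rfl
  have h := h.next (y := 2) rfl rfl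
  have h := h.blk (b := 4) ea5_k2_0 rfl
  have h := h.next (y := 3) rfl rfl
  have h := h.blk (b := 4) ea5_k3_0 rfl
  have h := h.next (y := 4) rfl rfl
  have h := h.blk (b := 4) ea5_k4_0 rfl
  have h := h.next (y := 5) rfl rfl
  have h := h.blk (b := 4) ea5_k5_0 rfl
  have h := h.next (y := 6) rfl rfl
  have h := h.blk (b := 4) ea5_k6_0 rfl
  have h := h.next (y := 7) rfl rfl
  exact h

theorem ea5 : Enum Ra5 (gensW 4) (gensW 5) 7 :=
  ⟨ea5_cols, ea5_ch, ea5_L, ea5_H, ea5_pb.1, ea5_e.get, [(nat_lit 0), (nat_lit 1), (nat_lit 3), (nat_lit 5), (nat_lit 7), (nat_lit 9), (nat_lit 10)], (nat_lit 15), (nat_lit 5), ea5_rots, ea5_hcs,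
    (nat_lit 8), (nat_lit 7), (nat_lit 128), (nat_lit 64), (nat_lit 8192), (nat_lit 8191), (nat_lit 8), (nat_lit 255), (nat_lit 18), (nat_lit 262143), (nat_lit 1), (nat_lit 4),
    fun _ _ => rfl, fun _ => rfl, fun _ _ => rfl, by decide +kernel, ea5_all.1⟩

theorem ea6_all : Cov ea6_F 8 9 0 := by
  have h := Cov.zero ea6_F 8
  have h := h.blk (b := 8) ea6_k0_0 rfl
  have h := h.next (y := 1) rfl rfl
  have h := h.blk (b := 8) ea6_k1_0 rfl
  have h := h.next (y := 2) rfl rfl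
  have h := h.blk (b := 8) ea6_k2_0 rfl
  have h := h.next (y := 3) rfl rfl
  have h := h.blk (b := 8) ea6_k3_0 rfl
  have h := h.next (y := 4) rfl rfl
  have h := h.blk (b := 8) ea6_k4_0 rfl
  have h := h.next (y := 5) rfl rfl
  have h := h.blk (b := 8) ea6_k5_0 rfl
  have h := h.next (y := 6) rfl rfl
  have h := h.blk (b := 8) ea6_k6_0 rfl
  have h := h.next (y := 7) rfl rfl
  have h := h.blk (b := 8) ea6_k7_0 rfl
  have h := h.next (y := 8) rfl rfl
  have h := h.blk (b := 8) ea6_k8_0 rfl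
  have h := h.next (y := 9) rfl rfl
  exact h

theorem ea6 : Enum Ra6 (gensW 5) (gensW 6) 15 :=
  ⟨ea6_cols, ea6_ch, ea6_L, ea6_H, ea6_pb.1, ea6_e.get, [(nat_lit 0), (nat_lit 1), (nat_lit 3), (nat_lit 5), (nat_lit 7), (nat_lit 9), (nat_lit 10), (nat_lit 11), (nat_lit 12)], (nat_lit 15), (nat_lit 6), ea6_rots, ea6_hcs,
    (nat_lit 16), (nat_lit 9), (nat_lit 512), (nat_lit 128), (nat_lit 65536), (nat_lit 32767), (nat_lit 8), (nat_lit 255), (nat_lit 22), (nat_lit 4194303), (nat_lit 2), (nat_lit 8),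
    fun _ _ => rfl, fun _ => rfl, fun _ _ => rfl, by decide +kernel, ea6_all.1⟩

theorem ea7_all : Cov ea7_F 24 10 0 := by
  have h := Cov.zero ea7_F 24
  have h := h.blk (b := 24) ea7_k0_0 rfl
  have h := h.next (y := 1) rfl rfl
  have h := h.blk (b := 24) ea7_k1_0 rfl
  have h := h.next (y := 2) rfl rfl
  have h := h.blk (b := 24) ea7_k2_0 rfl
  have h := h.next (y := 3) rfl rfl
  have h := h.blk (b := 24) ea7_k3_0 rfl
  have h := h.next (y := 4) rfl rfl
  have h := h.blk (b := 24) ea7_k4_0 rfl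
  have h := h.next (y := 5) rfl rfl
  have h := h.blk (b := 24) ea7_k5_0 rfl
  have h := h.next (y := 6) rfl rfl
  have h := h.blk (b := 24) ea7_k6_0 rfl
  have h := h.next (y := 7) rfl rfl
  have h := h.blk (b := 24) ea7_k7_0 rfl
  have h := h.next (y := 8) rfl rfl
  have h := h.blk (b := 24) ea7_k8_0 rfl
  have h := h.next (y := 9) rfl rfl
  have h := h.blk (b := 24) ea7_k9_0 rfl
  have h := h.next (y := 10) rfl rfl
  exact h

theorem ea7 : Enum Ra7 (gensW 6) (gensW 7) 90 :=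
  ⟨ea7_cols, ea7_ch, ea7_L, ea7_H, ea7_pb.1, ea7_e.get, [(nat_lit 0), (nat_lit 1), (nat_lit 3), (nat_lit 5), (nat_lit 7), (nat_lit 9), (nat_lit 10), (nat_lit 11), (nat_lit 12), (nat_lit 13)], (nat_lit 79), (nat_lit 7), ea7_rots, ea7_hcs,
    (nat_lit 91), (nat_lit 10), (nat_lit 2048), (nat_lit 256), (nat_lit 524288), (nat_lit 131071), (nat_lit 8), (nat_lit 255), (nat_lit 25), (nat_lit 33554431), (nat_lit 6), (nat_lit 24),
    fun _ _ => rfl, fun _ => rfl, fun _ _ => rfl, by decide +kernel, ea7_all.1⟩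

theorem ea8_all : Cov ea8_F 32 11 0 := by
  have h := Cov.zero ea8_F 32
  have h := h.blk (b := 32) ea8_k0_0 rfl
  have h := h.next (y := 1) rfl rfl
  have h := h.blk (b := 32) ea8_k1_0 rfl
  have h := h.next (y := 2) rfl rfl
  have h := h.blk (b := 32) ea8_k2_0 rfl
  have h := h.next (y := 3) rfl rfl
  have h := h.blk (b := 32) ea8_k3_0 rfl
  have h := h.next (y := 4) rfl rfl
  have h := h.blk (b := 32) ea8_k4_0 rfl
  have h := h.next (y := 5) rfl rfl
  have h := h.blk (b := 32) ea8_k5_0 rfl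
  have h := h.next (y := 6) rfl rfl
  have h := h.blk (b := 32) ea8_k6_0 rfl
  have h := h.next (y := 7) rfl rfl
  have h := h.blk (b := 32) ea8_k7_0 rfl
  have h := h.next (y := 8) rfl rfl
  have h := h.blk (b := 32) ea8_k8_0 rfl
  have h := h.next (y := 9) rfl rfl
  have h := h.blk (b := 32) ea8_k9_0 rfl
  have h := h.next (y := 10) rfl rfl
  have h := h.blk (b := 32) ea8_k10_0 rfl
  have h := h.next (y := 11) rfl rfl
  exact h

theorem ea8 : Enum Ra8 (gensW 7) (gensW 8) 132 :=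
  ⟨ea8_cols, ea8_ch, ea8_L, ea8_H, ea8_pb.1, ea8_e.get, [(nat_lit 0), (nat_lit 1), (nat_lit 3), (nat_lit 5), (nat_lit 7), (nat_lit 9), (nat_lit 10), (nat_lit 11), (nat_lit 12), (nat_lit 13), (nat_lit 15)], (nat_lit 207), (nat_lit 8), ea8_rots, ea8_hcs,
    (nat_lit 133), (nat_lit 11), (nat_lit 2048), (nat_lit 256), (nat_lit 524288), (nat_lit 131071), (nat_lit 8), (nat_lit 255), (nat_lit 25), (nat_lit 33554431), (nat_lit 8), (nat_lit 32),
    fun _ _ => rfl, fun _ => rfl, fun _ _ => rfl, by decide +kernel, ea8_all.1⟩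

theorem ea9_all : Cov ea9_F 4 13 0 := by
  have h := Cov.zero ea9_F 4
  have h := h.blk (b := 4) ea9_k0_0 rfl
  have h := h.next (y := 1) rfl rfl
  have h := h.blk (b := 4) ea9_k1_0 rfl
  have h := h.next (y := 2) rfl rfl
  have h := h.blk (b := 4) ea9_k2_0 rfl
  have h := h.next (y := 3) rfl rfl
  have h := h.blk (b := 4) ea9_k3_0 rfl
  have h := h.next (y := 4) rfl rfl
  have h := h.blk (b := 4) ea9_k4_0 rfl
  have h := h.next (y := 5) rfl rfl
  have h := h.blk (b := 4) ea9_k5_0 rfl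
  have h := h.next (y := 6) rfl rfl
  have h := h.blk (b := 4) ea9_k6_0 rfl
  have h := h.next (y := 7) rfl rfl
  have h := h.blk (b := 4) ea9_k7_0 rfl
  have h := h.next (y := 8) rfl rfl
  have h := h.blk (b := 4) ea9_k8_0 rfl
  have h := h.next (y := 9) rfl rfl
  have h := h.blk (b := 4) ea9_k9_0 rfl
  have h := h.next (y := 10) rfl rfl
  have h := h.blk (b := 4) ea9_k10_0 rfl
  have h := h.next (y := 11) rfl rfl
  have h := h.blk (b := 4) ea9_k11_0 rfl
  have h := h.next (y := 12) rfl rfl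
  have h := h.blk (b := 4) ea9_k12_0 rfl
  have h := h.next (y := 13) rfl rfl
  exact h

theorem ea9 : Enum Ra9 (gensW 8) (gensW 9) 13 :=
  ⟨ea9_cols, ea9_ch, ea9_L, ea9_H, ea9_pb.1, ea9_e.get, [(nat_lit 0), (nat_lit 1), (nat_lit 3), (nat_lit 5), (nat_lit 7), (nat_lit 9), (nat_lit 10), (nat_lit 11), (nat_lit 12), (nat_lit 13), (nat_lit 15), (nat_lit 17), (nat_lit 18)], (nat_lit 207), (nat_lit 9), ea9_rots, ea9_hcs,
    (nat_lit 14), (nat_lit 13), (nat_lit 64), (nat_lit 128), (nat_lit 8192), (nat_lit 4095), (nat_lit 8), (nat_lit 255), (nat_lit 19), (nat_lit 524287), (nat_lit 1), (nat_lit 4),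
    fun _ _ => rfl, fun _ => rfl, fun _ _ => rfl, by decide +kernel, ea9_all.1⟩

theorem bdD6 {K : Type*} [Group K] {g : ℕ → K} (hr : ∀ r ∈ RD6, ev g r = 1) : Bound g (gensW 6) 23040 :=
  (ee6.bound (rels_sub hr (by decide +kernel)) (ee5.bound (rels_sub hr (by decide +kernel)) (ee4.bound (rels_sub hr (by decide +kernel)) (ee3.bound (rels_sub hr (by decide +kernel)) (ee2.bound (rels_sub hr (by decide +kernel)) (bound_nil _))))))

theorem bdE7 {K : Type*} [Group K] {g : ℕ → K} (hr : ∀ r ∈ RE7, ev g r = 1) : Bound g (gensW 7) 1451520 :=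
  (ee7.bound (rels_sub hr (by decide +kernel)) (ee6.bound (rels_sub hr (by decide +kernel)) (ee5.bound (rels_sub hr (by decide +kernel)) (ee4.bound (rels_sub hr (by decide +kernel)) (ee3.bound (rels_sub hr (by decide +kernel)) (ee2.bound (rels_sub hr (by decide +kernel)) (bound_nil _)))))))

theorem bdA12 {K : Type*} [Group K] {g : ℕ → K} (hr : ∀ r ∈ RA12, ev g r = 1) : Bound g (gensW 8) 239500800 :=
  (ea8.bound (rels_sub hr (by decide +kernel)) (ea7.bound (rels_sub hr (by decide +kernel)) (ea6.bound (rels_sub hr (by decide +kernel)) (ea5.bound (rels_sub hr (by decide +kernel)) (ee4.bound (rels_sub hr (by decide +kernel)) (ee3.bound (rels_sub hr (by decide +kernel)) (ee2.bound (rels_sub hr (by decide +kernel)) (bound_nil _))))))))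

theorem bdA13 {K : Type*} [Group K] {g : ℕ → K} (hr : ∀ r ∈ RA13, ev g r = 1) : Bound g (gensW 9) 3113510400 :=
  (ea9.bound (rels_sub hr (by decide +kernel)) (ea8.bound (rels_sub hr (by decide +kernel)) (ea7.bound (rels_sub hr (by decide +kernel)) (ea6.bound (rels_sub hr (by decide +kernel)) (ea5.bound (rels_sub hr (by decide +kernel)) (ee4.bound (rels_sub hr (by decide +kernel)) (ee3.bound (rels_sub hr (by decide +kernel)) (ee2.bound (rels_sub hr (by decide +kernel)) (bound_nil _)))))))))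

end CF.Yo
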