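import Cfsg.Agent.Yo.PK

/-! The Weyl group of type `D₆` as a permutation group of degree 12: finite checks. -/

set_option autoImplicit false
set_option maxRecDepth 100000
set_option maxHeartbeats 0
set_option Elab.async false
set_option synthInstance.maxSize 2000

namespace CF.Yo

open CF.Perm.SS CF.Comp

def P12 : PC := ⟨(nat_lit 12), (nat_lit 132), (nat_lit 288), (nat_lit 0xfffffffffffffffffffffffffffffffffffffffffffffffffffffffffffffffffffffffffff), (nat_lit 0x2004008010020040080100200400801), (nat_lit 0x100100100100100100100100100100100100000000000000000000000000000000000000100100100100100100100100100100100100000000000000000000000000000000000000100100100100100100100100100100100100000000000000000000000000000000000000100100100100100100100100100100100100000000000000000000000000000000000000100100100100100100100100100100100100000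0000000000000000000000000000000001001001001001001001001001001001001000000000000000000000000000000000000001001001001001001001001001001001001000000000000000000000000000000000000001001001001001001001001001001001001000000000000000000000000000000000000001001001001001001001001001001001001000000000000000000000000000000000000001001001001001001001001001001001001000000000000000000000000000000000000001001001001001001001001001001001001000000000000000000000000000000000000001001001001001001001001001001001001), (nat_lit 0xfff000000000000000000000000000000000000000000000000000000000000000000000fff000000000000000000000000000000000000000000000000000000000000000000000fff000000000000000000000000000000000000000000000000000000000000000000000fff000000000000000000000000000000000000000000000000000000000000000000000fff00000000000000000000000000000000000000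0000000000000000000000000000000fff000000000000000000000000000000000000000000000000000000000000000000000fff000000000000000000000000000000000000000000000000000000000000000000000fff000000000000000000000000000000000000000000000000000000000000000000000fff000000000000000000000000000000000000000000000000000000000000000000000fff000000000000000000000000000000000000000000000000000000000000000000000fff000000000000000000000000000000000000000000000000000000000000000000000fff000000000000000000000000000000000)⟩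
instance ok12 : P12.OK := ⟨by
  unfold P12 pc
  congr 1 <;> decide +kernel, by decide +kernel, by decide +kernel⟩
def CW : List Perm.SS.Lvl := [
  ⟨0, [[3, 2, 1, 0, 4, 5, 6, 7, 8, 9, 10, 11], [2, 3, 0, 1, 4, 5, 6, 7, 8, 9, 10, 11], [0, 1, 4, 5, 2, 3, 6, 7, 8, 9, 10, 11], [0, 1, 2, 3, 6, 7, 4, 5, 8, 9, 10, 11], [0, 1, 2, 3, 4, 5, 8, 9, 6, 7, 10, 11], [0, 1, 2, 3, 4, 5, 6, 7, 10, 11, 8, 9]],
   [(0, [], [0, 1, 2, 3, 4, 5, 6, 7, 8, 9, 10, 11]), (3, [0], [3, 2, 1, 0, 4, 5, 6, 7, 8, 9, 10, 11]), (2, [1], [2, 3, 0, 1, 4, 5, 6, 7, 8, 9, 10, 11]), (1, [0, 1], [1, 0, 3, 2, 4, 5, 6, 7, 8, 9, 10, 11]), (5, [0, 2], [3, 2, 4, 5, 1, 0, 6, 7, 8, 9, 10, 11]), (4, [1, 2], [2, 3, 4, 5, 0, 1, 6, 7, 8, 9, 10, 11]), (7, [0, 2, 3], [3, 2, 4, 5, 6, 7, 1, 0, 8, 9, 10, 11]), (6, [1, 2, 3], [2, 3, 4, 5, 6, 7, 0, 1, 8, 9, 10, 11]), (9, [0, 2, 3, 4], [3, 2,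 4, 5, 6, 7, 8, 9, 1, 0, 10, 11]), (8, [1, 2, 3, 4], [2, 3, 4, 5, 6, 7, 8, 9, 0, 1, 10, 11]), (11, [0, 2, 3, 4, 5], [3, 2, 4, 5, 6, 7, 8, 9, 10, 11, 1, 0]), (10, [1, 2, 3, 4, 5], [2, 3, 4, 5, 6, 7, 8, 9, 10, 11, 0, 1])],
   [[2], [3], [4], [5], [0, 1, 2, 1, 0]]⟩,
  ⟨2, [[0, 1, 4, 5, 2, 3, 6, 7, 8, 9, 10, 11], [0, 1, 2, 3, 6, 7, 4, 5, 8, 9, 10, 11], [0, 1, 2, 3, 4, 5, 8, 9, 6, 7, 10, 11], [0, 1, 2, 3, 4, 5, 6, 7, 10, 11, 8, 9], [0, 1, 5, 4, 3, 2, 6, 7, 8, 9, 10, 11]],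
   [(2, [], [0, 1, 2, 3, 4, 5, 6, 7, 8, 9, 10, 11]), (4, [0], [0, 1, 4, 5, 2, 3, 6, 7, 8, 9, 10, 11]), (5, [4], [0, 1, 5, 4, 3, 2, 6, 7, 8, 9, 10, 11]), (6, [0, 1], [0, 1, 4, 5, 6, 7, 2, 3, 8, 9, 10, 11]), (3, [0, 4], [0, 1, 3, 2, 5, 4, 6, 7, 8, 9, 10, 11]), (7, [4, 1], [0, 1, 5, 4, 6, 7, 3, 2, 8, 9, 10, 11]), (8, [0, 1, 2], [0, 1, 4, 5, 6, 7, 8, 9, 2, 3, 10, 11]), (9, [4, 1, 2], [0, 1, 5, 4, 6, 7, 8, 9, 3, 2, 10, 11]), (10, [0, 1, 2, 3], [0, 1, 4, 5, 6, 7, 8, 9, 10, 11, 2, 3]), (11, [4, 1, 2, 3], [0, 1, 5, 4, 6, 7, 8, 9, 10, 11, 3, 2])],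
   [[1], [2], [3], [0, 1, 4, 1, 0]]⟩,
  ⟨4, [[0, 1, 2, 3, 6, 7, 4, 5, 8, 9, 10, 11], [0, 1, 2, 3, 4, 5, 8, 9, 6, 7, 10, 11], [0, 1, 2, 3, 4, 5, 6, 7, 10, 11, 8, 9], [0, 1, 2, 3, 7, 6, 5, 4, 8, 9, 10, 11]],
   [(4, [], [0, 1, 2, 3, 4, 5, 6, 7, 8, 9, 10, 11]), (6, [0], [0, 1, 2, 3, 6, 7, 4, 5, 8, 9, 10, 11]), (7, [3], [0, 1, 2, 3, 7, 6, 5, 4, 8, 9, 10, 11]), (8, [0, 1], [0, 1, 2, 3, 6, 7, 8, 9, 4, 5, 10, 11]), (5, [0, 3], [0, 1, 2, 3, 5, 4, 7, 6, 8, 9, 10, 11]), (9, [3, 1], [0, 1, 2, 3, 7, 6, 8, 9, 5, 4, 10, 11]), (10, [0, 1, 2], [0, 1, 2, 3, 6, 7, 8, 9, 10, 11, 4, 5]), (11, [3, 1, 2], [0, 1, 2, 3, 7, 6, 8, 9, 10, 11, 5, 4])],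
   [[1], [2], [0, 1, 3, 1, 0]]⟩,
  ⟨6, [[0, 1, 2, 3, 4, 5, 8, 9, 6, 7, 10, 11], [0, 1, 2, 3, 4, 5, 6, 7, 10, 11, 8, 9], [0, 1, 2, 3, 4, 5, 9, 8, 7, 6, 10, 11]],
   [(6, [], [0, 1, 2, 3, 4, 5, 6, 7, 8, 9, 10, 11]), (8, [0], [0, 1, 2, 3, 4, 5, 8, 9, 6, 7, 10, 11]), (9, [2], [0, 1, 2, 3, 4, 5, 9, 8, 7, 6, 10, 11]), (10, [0, 1], [0, 1, 2, 3, 4, 5, 8, 9, 10, 11, 6, 7]), (7, [0, 2], [0, 1, 2, 3, 4, 5, 7, 6, 9, 8, 10, 11]), (11, [2, 1], [0, 1, 2, 3, 4, 5, 9, 8, 10, 11, 7, 6])],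
   [[1], [0, 1, 2, 1, 0]]⟩,
  ⟨8, [[0, 1, 2, 3, 4, 5, 6, 7, 10, 11, 8, 9], [0, 1, 2, 3, 4, 5, 6, 7, 11, 10, 9, 8]],
   [(8, [], [0, 1, 2, 3, 4, 5, 6, 7, 8, 9, 10, 11]), (10, [0], [0, 1, 2, 3, 4, 5, 6, 7, 10, 11, 8, 9]), (11, [1], [0, 1, 2, 3, 4, 5, 6, 7, 11, 10, 9, 8]), (9, [0, 1], [0, 1, 2, 3, 4, 5, 6, 7, 9, 8, 11, 10])],
   []⟩]
theorem CW_ok : chainOK P12.n CW = true := by decide +kernel
/-- the Weyl group of type `D₆` -/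
abbrev W : Type := PE P12 (gens CW)
noncomputable def mkW (l : List ℕ) (h : (valb P12.n l && sift P12.n CW l) = true := by decide +kernel) : W :=
  PE.mk' l (PE.ex_of CW_ok rfl h)
noncomputable def TW_0_0 : W := mkW [0, 1, 2, 3, 4, 5, 6, 7, 8, 9, 10, 11]
noncomputable def TW_0_3 : W := mkW [3, 2, 1, 0, 4, 5, 6, 7, 8, 9, 10, 11]
noncomputable def TW_0_2 : W := mkW [2, 3, 0, 1, 4, 5, 6, 7, 8, 9, 10, 11]
noncomputable def TW_0_1 : W := mkW [1, 0, 3, 2, 4, 5, 6, 7, 8, 9, 10, 11]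
noncomputable def TW_0_5 : W := mkW [5, 4, 1, 0, 2, 3, 6, 7, 8, 9, 10, 11]
noncomputable def TW_0_4 : W := mkW [4, 5, 0, 1, 2, 3, 6, 7, 8, 9, 10, 11]
noncomputable def TW_0_7 : W := mkW [7, 6, 1, 0, 2, 3, 4, 5, 8, 9, 10, 11]
noncomputable def TW_0_6 : W := mkW [6, 7, 0, 1, 2, 3, 4, 5, 8, 9, 10, 11]
noncomputable def TW_0_9 : W := mkW [9, 8, 1, 0, 2, 3, 4, 5, 6, 7, 10, 11]
noncomputable def TW_0_8 : W := mkW [8, 9, 0, 1, 2, 3, 4, 5, 6, 7, 10, 11]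
noncomputable def TW_0_11 : W := mkW [11, 10, 1, 0, 2, 3, 4, 5, 6, 7, 8, 9]
noncomputable def TW_0_10 : W := mkW [10, 11, 0, 1, 2, 3, 4, 5, 6, 7, 8, 9]
noncomputable def TW_1_4 : W := mkW [0, 1, 4, 5, 2, 3, 6, 7, 8, 9, 10, 11]
noncomputable def TW_1_5 : W := mkW [0, 1, 5, 4, 3, 2, 6, 7, 8, 9, 10, 11]
noncomputable def TW_1_6 : W := mkW [0, 1, 6, 7, 2, 3, 4, 5, 8, 9, 10, 11]
noncomputable def TW_1_3 : W := mkW [0, 1, 3, 2, 5, 4, 6, 7, 8, 9, 10, 11]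
noncomputable def TW_1_7 : W := mkW [0, 1, 7, 6, 3, 2, 4, 5, 8, 9, 10, 11]
noncomputable def TW_1_8 : W := mkW [0, 1, 8, 9, 2, 3, 4, 5, 6, 7, 10, 11]
noncomputable def TW_1_9 : W := mkW [0, 1, 9, 8, 3, 2, 4, 5, 6, 7, 10, 11]
noncomputable def TW_1_10 : W := mkW [0, 1, 10, 11, 2, 3, 4, 5, 6, 7, 8, 9]
noncomputable def TW_1_11 : W := mkW [0, 1, 11, 10, 3, 2, 4, 5, 6, 7, 8, 9]
noncomputable def TW_2_6 : W := mkW [0, 1, 2, 3, 6, 7, 4, 5, 8, 9, 10, 11]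
noncomputable def TW_2_7 : W := mkW [0, 1, 2, 3, 7, 6, 5, 4, 8, 9, 10, 11]
noncomputable def TW_2_8 : W := mkW [0, 1, 2, 3, 8, 9, 4, 5, 6, 7, 10, 11]
noncomputable def TW_2_5 : W := mkW [0, 1, 2, 3, 5, 4, 7, 6, 8, 9, 10, 11]
noncomputable def TW_2_9 : W := mkW [0, 1, 2, 3, 9, 8, 5, 4, 6, 7, 10, 11]
noncomputable def TW_2_10 : W := mkW [0, 1, 2, 3, 10, 11, 4, 5, 6, 7, 8, 9]
noncomputable def TW_2_11 : W := mkW [0, 1, 2, 3, 11, 10, 5, 4, 6, 7, 8, 9]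
noncomputable def TW_3_8 : W := mkW [0, 1, 2, 3, 4, 5, 8, 9, 6, 7, 10, 11]
noncomputable def TW_3_9 : W := mkW [0, 1, 2, 3, 4, 5, 9, 8, 7, 6, 10, 11]
noncomputable def TW_3_10 : W := mkW [0, 1, 2, 3, 4, 5, 10, 11, 6, 7, 8, 9]
noncomputable def TW_3_7 : W := mkW [0, 1, 2, 3, 4, 5, 7, 6, 9, 8, 10, 11]
noncomputable def TW_3_11 : W := mkW [0, 1, 2, 3, 4, 5, 11, 10, 7, 6, 8, 9]
noncomputable def TW_4_10 : W := mkW [0, 1, 2, 3, 4, 5, 6, 7, 10, 11, 8, 9]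
noncomputable def TW_4_11 : W := mkW [0, 1, 2, 3, 4, 5, 6, 7, 11, 10, 9, 8]
noncomputable def TW_4_9 : W := mkW [0, 1, 2, 3, 4, 5, 6, 7, 9, 8, 11, 10]
noncomputable def TW : List (List W) := [[TW_0_0, TW_0_3, TW_0_2, TW_0_1, TW_0_5, TW_0_4, TW_0_7, TW_0_6, TW_0_9, TW_0_8, TW_0_11, TW_0_10],
  [TW_0_0, TW_1_4, TW_1_5, TW_1_6, TW_1_3, TW_1_7, TW_1_8, TW_1_9, TW_1_10, TW_1_11],
  [TW_0_0, TW_2_6, TW_2_7, TW_2_8, TW_2_5, TW_2_9, TW_2_10, TW_2_11],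
  [TW_0_0, TW_3_8, TW_3_9, TW_3_10, TW_3_7, TW_3_11],
  [TW_0_0, TW_4_10, TW_4_11, TW_4_9]]
theorem TW_tr : PE.Tr TW := PE.tr_of CW_ok rfl (by decide +kernel)
noncomputable instance enW : PE.Enm P12 (gens CW) := ⟨TW, TW_tr⟩
noncomputable def j0 : W := mkW [0, 1, 2, 3, 4, 5, 6, 7, 8, 9, 10, 11]
noncomputable def j1 : W := mkW [2, 3, 0, 1, 4, 5, 6, 7, 8, 9, 10, 11]
noncomputable def j2 : W := mkW [3, 2, 1, 0, 4, 5, 6, 7, 8, 9, 10, 11]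
noncomputable def j3 : W := mkW [1, 0, 3, 2, 4, 5, 6, 7, 8, 9, 10, 11]
noncomputable def j4 : W := mkW [0, 1, 2, 3, 6, 7, 4, 5, 8, 9, 10, 11]
noncomputable def j5 : W := mkW [2, 3, 0, 1, 6, 7, 4, 5, 8, 9, 10, 11]
noncomputable def j6 : W := mkW [3, 2, 1, 0, 6, 7, 4, 5, 8, 9, 10, 11]
noncomputable def j7 : W := mkW [1, 0, 3, 2, 6, 7, 4, 5, 8, 9, 10, 11]
noncomputable def j8 : W := mkW [0, 1, 2, 3, 7, 6, 5, 4, 8, 9, 10, 11]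
noncomputable def j9 : W := mkW [2, 3, 0, 1, 7, 6, 5, 4, 8, 9, 10, 11]
noncomputable def j10 : W := mkW [3, 2, 1, 0, 7, 6, 5, 4, 8, 9, 10, 11]
noncomputable def j11 : W := mkW [1, 0, 3, 2, 7, 6, 5, 4, 8, 9, 10, 11]
noncomputable def j12 : W := mkW [0, 1, 2, 3, 5, 4, 7, 6, 8, 9, 10, 11]
noncomputable def j13 : W := mkW [2, 3, 0, 1, 5, 4, 7, 6, 8, 9, 10, 11]
noncomputable def j14 : W := mkW [3, 2, 1, 0, 5, 4, 7, 6, 8, 9, 10, 11]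
noncomputable def j15 : W := mkW [1, 0, 3, 2, 5, 4, 7, 6, 8, 9, 10, 11]
noncomputable def j16 : W := mkW [0, 1, 2, 3, 4, 5, 6, 7, 10, 11, 8, 9]
noncomputable def j17 : W := mkW [2, 3, 0, 1, 4, 5, 6, 7, 10, 11, 8, 9]
noncomputable def j18 : W := mkW [3, 2, 1, 0, 4, 5, 6, 7, 10, 11, 8, 9]
noncomputable def j19 : W := mkW [1, 0, 3, 2, 4, 5, 6, 7, 10, 11, 8, 9]
noncomputable def j20 : W := mkW [0, 1, 2, 3, 6, 7, 4, 5, 10, 11, 8, 9]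
noncomputable def j21 : W := mkW [2, 3, 0, 1, 6, 7, 4, 5, 10, 11, 8, 9]
noncomputable def j22 : W := mkW [3, 2, 1, 0, 6, 7, 4, 5, 10, 11, 8, 9]
noncomputable def j23 : W := mkW [1, 0, 3, 2, 6, 7, 4, 5, 10, 11, 8, 9]
noncomputable def j24 : W := mkW [0, 1, 2, 3, 7, 6, 5, 4, 10, 11, 8, 9]
noncomputable def j25 : W := mkW [2, 3, 0, 1, 7, 6, 5, 4, 10, 11, 8, 9]
noncomputable def j26 : W := mkW [3, 2, 1, 0, 7, 6, 5, 4, 10, 11, 8, 9]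
noncomputable def j27 : W := mkW [1, 0, 3, 2, 7, 6, 5, 4, 10, 11, 8, 9]
noncomputable def j28 : W := mkW [0, 1, 2, 3, 5, 4, 7, 6, 10, 11, 8, 9]
noncomputable def j29 : W := mkW [2, 3, 0, 1, 5, 4, 7, 6, 10, 11, 8, 9]
noncomputable def j30 : W := mkW [3, 2, 1, 0, 5, 4, 7, 6, 10, 11, 8, 9]
noncomputable def j31 : W := mkW [1, 0, 3, 2, 5, 4, 7, 6, 10, 11, 8, 9]
noncomputable def j32 : W := mkW [0, 1, 2, 3, 4, 5, 6, 7, 11, 10, 9, 8]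
noncomputable def j33 : W := mkW [2, 3, 0, 1, 4, 5, 6, 7, 11, 10, 9, 8]
noncomputable def j34 : W := mkW [3, 2, 1, 0, 4, 5, 6, 7, 11, 10, 9, 8]
noncomputable def j35 : W := mkW [1, 0, 3, 2, 4, 5, 6, 7, 11, 10, 9, 8]
noncomputable def j36 : W := mkW [0, 1, 2, 3, 6, 7, 4, 5, 11, 10, 9, 8]
noncomputable def j37 : W := mkW [2, 3, 0, 1, 6, 7, 4, 5, 11, 10, 9, 8]
noncomputable def j38 : W := mkW [3, 2, 1, 0, 6, 7, 4, 5, 11, 10, 9, 8]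
noncomputable def j39 : W := mkW [1, 0, 3, 2, 6, 7, 4, 5, 11, 10, 9, 8]
noncomputable def j40 : W := mkW [0, 1, 2, 3, 7, 6, 5, 4, 11, 10, 9, 8]
noncomputable def j41 : W := mkW [2, 3, 0, 1, 7, 6, 5, 4, 11, 10, 9, 8]
noncomputable def j42 : W := mkW [3, 2, 1, 0, 7, 6, 5, 4, 11, 10, 9, 8]
noncomputable def j43 : W := mkW [1, 0, 3, 2, 7, 6, 5, 4, 11, 10, 9, 8]
noncomputable def j44 : W := mkW [0, 1, 2, 3, 5, 4, 7, 6, 11, 10, 9, 8]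
noncomputable def j45 : W := mkW [2, 3, 0, 1, 5, 4, 7, 6, 11, 10, 9, 8]
noncomputable def j46 : W := mkW [3, 2, 1, 0, 5, 4, 7, 6, 11, 10, 9, 8]
noncomputable def j47 : W := mkW [1, 0, 3, 2, 5, 4, 7, 6, 11, 10, 9, 8]
noncomputable def j48 : W := mkW [0, 1, 2, 3, 4, 5, 6, 7, 9, 8, 11, 10]
noncomputable def j49 : W := mkW [2, 3, 0, 1, 4, 5, 6, 7, 9, 8, 11, 10]
noncomputable def j50 : W := mkW [3, 2, 1, 0, 4, 5, 6, 7, 9, 8, 11, 10]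
noncomputable def j51 : W := mkW [1, 0, 3, 2, 4, 5, 6, 7, 9, 8, 11, 10]
noncomputable def j52 : W := mkW [0, 1, 2, 3, 6, 7, 4, 5, 9, 8, 11, 10]
noncomputable def j53 : W := mkW [2, 3, 0, 1, 6, 7, 4, 5, 9, 8, 11, 10]
noncomputable def j54 : W := mkW [3, 2, 1, 0, 6, 7, 4, 5, 9, 8, 11, 10]
noncomputable def j55 : W := mkW [1, 0, 3, 2, 6, 7, 4, 5, 9, 8, 11, 10]
noncomputable def j56 : W := mkW [0, 1, 2, 3, 7, 6, 5, 4, 9, 8, 11, 10]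
noncomputable def j57 : W := mkW [2, 3, 0, 1, 7, 6, 5, 4, 9, 8, 11, 10]
noncomputable def j58 : W := mkW [3, 2, 1, 0, 7, 6, 5, 4, 9, 8, 11, 10]
noncomputable def j59 : W := mkW [1, 0, 3, 2, 7, 6, 5, 4, 9, 8, 11, 10]
noncomputable def j60 : W := mkW [0, 1, 2, 3, 5, 4, 7, 6, 9, 8, 11, 10]
noncomputable def j61 : W := mkW [2, 3, 0, 1, 5, 4, 7, 6, 9, 8, 11, 10]
noncomputable def j62 : W := mkW [3, 2, 1, 0, 5, 4, 7, 6, 9, 8, 11, 10]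
noncomputable def j63 : W := mkW [1, 0, 3, 2, 5, 4, 7, 6, 9, 8, 11, 10]
noncomputable def JL : List W := [j0, j1, j2, j3, j4, j5, j6, j7, j8, j9, j10, j11, j12, j13, j14, j15, j16, j17, j18, j19, j20, j21, j22, j23, j24, j25, j26, j27, j28, j29, j30, j31, j32, j33, j34, j35, j36, j37, j38, j39, j40, j41, j42, j43, j44, j45, j46, j47, j48, j49, j50, j51, j52, j53, j54, j55, j56, j57, j58, j59, j60, j61, j62, j63]
/-- the elements of the elementary abelian subgroup of order 64 -/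
noncomputable def jP (m : ℕ) : W := nth 1 JL m
noncomputable def g2 : W := mkW [0, 1, 4, 5, 2, 3, 6, 7, 8, 9, 10, 11]
noncomputable def g4 : W := mkW [0, 1, 2, 3, 4, 5, 8, 9, 6, 7, 10, 11]
noncomputable def c12 : W := mkW [4, 5, 6, 7, 0, 1, 2, 3, 8, 9, 10, 11]
noncomputable def c13 : W := mkW [8, 9, 10, 11, 4, 5, 6, 7, 0, 1, 2, 3]
noncomputable def c23 : W := mkW [0, 1, 2, 3, 8, 9, 10, 11, 4, 5, 6, 7]
noncomputable def e02 : W := mkW [1, 0, 2, 3, 5, 4, 6, 7, 8, 9, 10, 11]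
noncomputable def e04 : W := mkW [1, 0, 2, 3, 4, 5, 6, 7, 9, 8, 10, 11]
noncomputable def e24 : W := mkW [0, 1, 2, 3, 5, 4, 6, 7, 9, 8, 10, 11]
noncomputable def e12 : W := mkW [0, 1, 3, 2, 5, 4, 6, 7, 8, 9, 10, 11]
noncomputable def e14 : W := mkW [0, 1, 3, 2, 4, 5, 6, 7, 9, 8, 10, 11]
noncomputable def q12 : W := mkW [0, 1, 5, 4, 3, 2, 6, 7, 8, 9, 10, 11]
noncomputable def gs : List W := [jP 2, jP 1, g2, jP 4, g4, jP 16]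
noncomputable def bas : List W := [jP 1, jP 2, jP 4, jP 8, jP 16, jP 32]
noncomputable def wL : List W := [jP 3, jP 12, jP 48]
def sL : List ℕ := [1, 2, 4, 8, 16, 32]
/-- products of sublists -/
noncomputable def jq {K : Type*} [Group K] (l : List K) : ℕ → K :=
  List.rec (motive := fun _ => ℕ → K) (fun _ => 1)
    (fun a _ ih m => Bool.rec (ih (m / 2)) (a * ih (m / 2)) (tb m 0)) l
/-- sums -/
noncomputable def sumN (f : ℕ → ℕ) (n : ℕ) : ℕ := Nat.rec (motive := fun _ => ℕ) 0 (fun i r => r + f i) n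
/-- the number of moved points -/
noncomputable def ty (a : W) : ℕ := sumN (fun i => Bool.rec 1 0 (a.mp i i)) 12
noncomputable def mkb (a : W) (i : ℕ) : ℕ :=
  Bool.rec (Bool.rec (Bool.rec 0 2 (a.mp i (i + 3))) 1 (a.mp i (i + 2))) 3 (a.mp i (i + 1))
noncomputable def mk (a : W) : ℕ := mkb a 0 + 4 * mkb a 4 + 16 * mkb a 8
def tyM (m : ℕ) : ℕ := (0xccc8ccc8ccc88884ccc8ccc8ccc88884ccc8ccc8ccc888848884888488844440 >>> (4 * m)) % 16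
noncomputable def x11 : W := mkW [0, 1, 2, 3, 8, 9, 4, 5, 6, 7, 10, 11]
noncomputable def x12 : W := mkW [0, 1, 4, 5, 2, 3, 8, 9, 6, 7, 10, 11]
noncomputable def x13 : W := mkW [0, 1, 4, 5, 2, 3, 8, 9, 10, 11, 6, 7]
noncomputable def x14 : W := mkW [5, 4, 1, 0, 2, 3, 6, 7, 8, 9, 10, 11]
noncomputable def x15 : W := mkW [0, 1, 4, 5, 8, 9, 2, 3, 6, 7, 10, 11]
noncomputable def x16 : W := mkW [0, 1, 8, 9, 4, 5, 2, 3, 6, 7, 10, 11]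
noncomputable def x17 : W := mkW [5, 4, 1, 0, 2, 3, 8, 9, 6, 7, 10, 11]
noncomputable def x18 : W := mkW [5, 4, 1, 0, 8, 9, 2, 3, 6, 7, 10, 11]
noncomputable def x19 : W := mkW [5, 4, 8, 9, 1, 0, 2, 3, 6, 7, 10, 11]
noncomputable def x20 : W := mkW [5, 4, 1, 0, 2, 3, 8, 9, 10, 11, 6, 7]
noncomputable def x21 : W := mkW [5, 4, 1, 0, 8, 9, 2, 3, 10, 11, 6, 7]
noncomputable def x22 : W := mkW [9, 8, 4, 5, 1, 0, 2, 3, 6, 7, 10, 11]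
noncomputable def K15 : List W := [j0, g4, x11, g2, x12, x13, x14, x15, x16, x17, x18, x19, x20, x21, x22]
noncomputable def x23 : W := mkW [9, 8, 10, 11, 4, 5, 6, 7, 1, 0, 2, 3]
noncomputable def x24 : W := mkW [8, 9, 10, 11, 5, 4, 6, 7, 1, 0, 2, 3]
noncomputable def x25 : W := mkW [4, 5, 6, 7, 9, 8, 10, 11, 1, 0, 2, 3]
noncomputable def x26 : W := mkW [4, 5, 6, 7, 1, 0, 2, 3, 9, 8, 10, 11]
noncomputable def x27 : W := mkW [9, 8, 10, 11, 5, 4, 6, 7, 0, 1, 2, 3]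
noncomputable def x28 : W := mkW [5, 4, 6, 7, 9, 8, 10, 11, 0, 1, 2, 3]
noncomputable def x29 : W := mkW [5, 4, 6, 7, 0, 1, 2, 3, 9, 8, 10, 11]
noncomputable def x30 : W := mkW [9, 8, 10, 11, 0, 1, 2, 3, 5, 4, 6, 7]
noncomputable def x31 : W := mkW [8, 9, 10, 11, 1, 0, 2, 3, 5, 4, 6, 7]
noncomputable def x32 : W := mkW [0, 1, 2, 3, 9, 8, 10, 11, 5, 4, 6, 7]
noncomputable def x33 : W := mkW [9, 8, 10, 11, 1, 0, 2, 3, 4, 5, 6, 7]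
noncomputable def x34 : W := mkW [8, 9, 10, 11, 0, 1, 2, 3, 4, 5, 6, 7]
noncomputable def x35 : W := mkW [1, 0, 2, 3, 9, 8, 10, 11, 4, 5, 6, 7]
noncomputable def x36 : W := mkW [5, 4, 6, 7, 8, 9, 10, 11, 1, 0, 2, 3]
noncomputable def x37 : W := mkW [4, 5, 6, 7, 8, 9, 10, 11, 0, 1, 2, 3]
noncomputable def x38 : W := mkW [1, 0, 2, 3, 8, 9, 10, 11, 5, 4, 6, 7]
noncomputable def x39 : W := mkW [5, 4, 6, 7, 1, 0, 2, 3, 8, 9, 10, 11]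
noncomputable def NL : List W := [x23, x24, x25, x26, x27, c13, x28, x29, x30, x31, x32, e24, x33, x34, x35, e04, x36, x37, x38, c23, x39, c12, e02, j0]
def cl (m : ℕ) : ℕ := (0x655a54415441a11854414329423919905441423943291990a118199019908007 >>> (4 * m)) % 16
def reps : List ℕ := [1, 7, 21, 22, 23, 31, 63, 0, 3, 5, 15]
noncomputable def x40 : W := mkW [2, 3, 1, 0, 5, 4, 6, 7, 8, 9, 10, 11]
noncomputable def x41 : W := mkW [4, 5, 6, 7, 2, 3, 0, 1, 8, 9, 10, 11]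
noncomputable def x42 : W := mkW [5, 4, 6, 7, 0, 1, 3, 2, 8, 9, 10, 11]
noncomputable def SQ : List W := [j0, x40, x41, x42]
noncomputable def x43 : W := mkW [4, 5, 2, 3, 0, 1, 6, 7, 8, 9, 10, 11]
noncomputable def x44 : W := mkW [5, 4, 2, 3, 1, 0, 6, 7, 8, 9, 10, 11]
noncomputable def x45 : W := mkW [6, 7, 2, 3, 4, 5, 0, 1, 8, 9, 10, 11]
noncomputable def x46 : W := mkW [7, 6, 2, 3, 4, 5, 1, 0, 8, 9, 10, 11]
noncomputable def x47 : W := mkW [8, 9, 2, 3, 4, 5, 6, 7, 0, 1, 10, 11]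
noncomputable def x48 : W := mkW [9, 8, 2, 3, 4, 5, 6, 7, 1, 0, 10, 11]
noncomputable def x49 : W := mkW [10, 11, 2, 3, 4, 5, 6, 7, 8, 9, 0, 1]
noncomputable def x50 : W := mkW [11, 10, 2, 3, 4, 5, 6, 7, 8, 9, 1, 0]
noncomputable def x51 : W := mkW [0, 1, 6, 7, 4, 5, 2, 3, 8, 9, 10, 11]
noncomputable def x52 : W := mkW [0, 1, 7, 6, 4, 5, 3, 2, 8, 9, 10, 11]
noncomputable def x53 : W := mkW [0, 1, 8, 9, 4, 5, 6, 7, 2, 3, 10, 11]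
noncomputable def x54 : W := mkW [0, 1, 9, 8, 4, 5, 6, 7, 3, 2, 10, 11]
noncomputable def x55 : W := mkW [0, 1, 10, 11, 4, 5, 6, 7, 8, 9, 2, 3]
noncomputable def x56 : W := mkW [0, 1, 11, 10, 4, 5, 6, 7, 8, 9, 3, 2]
noncomputable def x57 : W := mkW [0, 1, 2, 3, 8, 9, 6, 7, 4, 5, 10, 11]
noncomputable def x58 : W := mkW [0, 1, 2, 3, 9, 8, 6, 7, 5, 4, 10, 11]
noncomputable def x59 : W := mkW [0, 1, 2, 3, 10, 11, 6, 7, 8, 9, 4, 5]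
noncomputable def x60 : W := mkW [0, 1, 2, 3, 11, 10, 6, 7, 8, 9, 5, 4]
noncomputable def x61 : W := mkW [0, 1, 2, 3, 4, 5, 9, 8, 7, 6, 10, 11]
noncomputable def x62 : W := mkW [0, 1, 2, 3, 4, 5, 10, 11, 8, 9, 6, 7]
noncomputable def x63 : W := mkW [0, 1, 2, 3, 4, 5, 11, 10, 8, 9, 7, 6]
noncomputable def Refl : List W := [j1, j2, x43, x44, x45, x46, x47, x48, x49, x50, g2, q12, x51, x52, x53, x54, x55, x56, j4, j8, x57, x58, x59, x60, g4, x61, x62, x63, j16, j32]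
noncomputable def x64 : W := mkW [3, 2, 6, 7, 8, 9, 10, 11, 1, 0, 4, 5]
noncomputable def x65 : W := mkW [2, 3, 6, 7, 8, 9, 10, 11, 0, 1, 4, 5]
noncomputable def x66 : W := mkW [3, 2, 4, 5, 8, 9, 10, 11, 1, 0, 6, 7]
noncomputable def x67 : W := mkW [2, 3, 4, 5, 8, 9, 10, 11, 0, 1, 6, 7]
noncomputable def x68 : W := mkW [3, 2, 4, 5, 6, 7, 10, 11, 1, 0, 8, 9]
noncomputable def x69 : W := mkW [2, 3, 4, 5, 6, 7, 10, 11, 0, 1, 8, 9]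
noncomputable def x70 : W := mkW [3, 2, 4, 5, 6, 7, 8, 9, 1, 0, 10, 11]
noncomputable def x71 : W := mkW [2, 3, 4, 5, 6, 7, 8, 9, 0, 1, 10, 11]
noncomputable def x72 : W := mkW [1, 0, 6, 7, 8, 9, 10, 11, 3, 2, 4, 5]
noncomputable def x73 : W := mkW [0, 1, 6, 7, 8, 9, 10, 11, 2, 3, 4, 5]
noncomputable def x74 : W := mkW [1, 0, 4, 5, 8, 9, 10, 11, 3, 2, 6, 7]
noncomputable def x75 : W := mkW [0, 1, 4, 5, 8, 9, 10, 11, 2, 3, 6, 7]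
noncomputable def x76 : W := mkW [1, 0, 4, 5, 6, 7, 10, 11, 3, 2, 8, 9]
noncomputable def x77 : W := mkW [0, 1, 4, 5, 6, 7, 10, 11, 2, 3, 8, 9]
noncomputable def x78 : W := mkW [1, 0, 4, 5, 6, 7, 8, 9, 3, 2, 10, 11]
noncomputable def x79 : W := mkW [0, 1, 4, 5, 6, 7, 8, 9, 2, 3, 10, 11]
noncomputable def x80 : W := mkW [1, 0, 2, 3, 6, 7, 10, 11, 5, 4, 8, 9]
noncomputable def x81 : W := mkW [0, 1, 2, 3, 6, 7, 10, 11, 4, 5, 8, 9]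
noncomputable def x82 : W := mkW [1, 0, 2, 3, 6, 7, 8, 9, 5, 4, 10, 11]
noncomputable def x83 : W := mkW [0, 1, 2, 3, 6, 7, 8, 9, 4, 5, 10, 11]
noncomputable def x84 : W := mkW [1, 0, 2, 3, 4, 5, 10, 11, 7, 6, 8, 9]
noncomputable def x85 : W := mkW [0, 1, 2, 3, 4, 5, 10, 11, 6, 7, 8, 9]
noncomputable def x86 : W := mkW [1, 0, 2, 3, 4, 5, 8, 9, 7, 6, 10, 11]
noncomputable def HL : List W := [x36, x37, x64, x65, x66, x67, x68, x69, x70, x71, x72, x73, x74, x75, x76, x77, x78, x79, x38, c23, x80, x81, x82, x83, x84, x85, x86, g4, e04, j0]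
noncomputable def x87 : W := mkW [7, 6, 4, 5, 2, 3, 1, 0, 8, 9, 10, 11]
noncomputable def x88 : W := mkW [7, 6, 5, 4, 3, 2, 1, 0, 8, 9, 10, 11]
noncomputable def K4 : List W := [x87, x88, e12, j0]
noncomputable def x89 : W := mkW [1, 0, 5, 4, 2, 3, 6, 7, 8, 9, 10, 11]
noncomputable def x90 : W := mkW [0, 1, 4, 5, 6, 7, 2, 3, 8, 9, 10, 11]
noncomputable def x91 : W := mkW [1, 0, 5, 4, 6, 7, 2, 3, 8, 9, 10, 11]
noncomputable def x92 : W := mkW [4, 5, 0, 1, 2, 3, 6, 7, 8, 9, 10, 11]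
noncomputable def x93 : W := mkW [4, 5, 0, 1, 6, 7, 2, 3, 8, 9, 10, 11]
noncomputable def x94 : W := mkW [5, 4, 1, 0, 6, 7, 2, 3, 8, 9, 10, 11]
noncomputable def HW : List W := [j0, e02, g2, x89, x90, x91, x92, x14, x93, x94, c12, x39]
noncomputable def x95 : W := mkW [1, 0, 2, 3, 5, 4, 8, 9, 6, 7, 10, 11]
noncomputable def x96 : W := mkW [1, 0, 2, 3, 5, 4, 10, 11, 6, 7, 8, 9]
noncomputable def x97 : W := mkW [1, 0, 2, 3, 7, 6, 8, 9, 4, 5, 10, 11]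
noncomputable def x98 : W := mkW [1, 0, 2, 3, 7, 6, 10, 11, 4, 5, 8, 9]
noncomputable def HZ : List W := [e02, j0, x95, g4, x96, x85, x97, x83, x98, x81, x35, c23]
def CT : List Perm.SS.Lvl := [
  ⟨0, [[2, 3, 0, 1, 4, 5, 6, 7, 8, 9, 10, 11], [3, 2, 1, 0, 4, 5, 6, 7, 8, 9, 10, 11], [0, 1, 2, 3, 6, 7, 4, 5, 8, 9, 10, 11], [0, 1, 2, 3, 7, 6, 5, 4, 8, 9, 10, 11], [1, 0, 2, 3, 5, 4, 6, 7, 8, 9, 10, 11], [0, 1, 2, 3, 5, 4, 6, 7, 9, 8, 10, 11], [0, 1, 2, 3, 8, 9, 10, 11, 4, 5, 6, 7]],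
   [(0, [], [0, 1, 2, 3, 4, 5, 6, 7, 8, 9, 10, 11]), (2, [0], [2, 3, 0, 1, 4, 5, 6, 7, 8, 9, 10, 11]), (3, [1], [3, 2, 1, 0, 4, 5, 6, 7, 8, 9, 10, 11]), (1, [4], [1, 0, 2, 3, 5, 4, 6, 7, 8, 9, 10, 11])],
   [[3], [6], [4, 1, 0]]⟩,
  ⟨2, [[0, 1, 2, 3, 7, 6, 5, 4, 8, 9, 10, 11], [0, 1, 2, 3, 8, 9, 10, 11, 4, 5, 6, 7], [0, 1, 3, 2, 5, 4, 6, 7, 8, 9, 10, 11]],
   [(2, [], [0, 1, 2, 3, 4, 5, 6, 7, 8, 9, 10, 11]), (3, [2], [0, 1, 3, 2, 5, 4, 6, 7, 8, 9, 10, 11])],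
   [[1], [2, 0, 2], [2, 1, 2]]⟩,
  ⟨4, [[0, 1, 2, 3, 8, 9, 10, 11, 4, 5, 6, 7], [0, 1, 2, 3, 6, 7, 4, 5, 8, 9, 10, 11], [0, 1, 2, 3, 9, 8, 10, 11, 5, 4, 6, 7]],
   [(4, [], [0, 1, 2, 3, 4, 5, 6, 7, 8, 9, 10, 11]), (8, [0], [0, 1, 2, 3, 8, 9, 10, 11, 4, 5, 6, 7]), (6, [1], [0, 1, 2, 3, 6, 7, 4, 5, 8, 9, 10, 11]), (9, [2], [0, 1, 2, 3, 9, 8, 10, 11, 5, 4, 6, 7]), (5, [0, 2], [0, 1, 2, 3, 5, 4, 6, 7, 9, 8, 10, 11]), (10, [1, 0], [0, 1, 2, 3, 8, 9, 10, 11, 6, 7, 4, 5]), (7, [0, 2, 1], [0, 1, 2, 3, 6, 7, 5, 4, 9, 8, 10, 11]), (11, [0, 2, 1, 0], [0, 1, 2, 3, 9, 8, 10, 11, 6, 7, 5, 4])],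
   [[2, 1, 2], [1, 0, 2, 1]]⟩,
  ⟨6, [[0, 1, 2, 3, 4, 5, 6, 7, 11, 10, 9, 8], [0, 1, 2, 3, 4, 5, 7, 6, 9, 8, 10, 11]],
   [(6, [], [0, 1, 2, 3, 4, 5, 6, 7, 8, 9, 10, 11]), (7, [1], [0, 1, 2, 3, 4, 5, 7, 6, 9, 8, 10, 11])],
   [[0], [1, 0, 1]]⟩,
  ⟨8, [[0, 1, 2, 3, 4, 5, 6, 7, 11, 10, 9, 8], [0, 1, 2, 3, 4, 5, 6, 7, 10, 11, 8, 9]],
   [(8, [], [0, 1, 2, 3, 4, 5, 6, 7, 8, 9, 10, 11]), (11, [0], [0, 1, 2, 3, 4, 5, 6, 7, 11, 10, 9, 8]), (10, [1], [0, 1, 2, 3, 4, 5, 6, 7, 10, 11, 8, 9]), (9, [0, 1], [0, 1, 2, 3, 4, 5, 6, 7, 9, 8, 11, 10])],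
   []⟩,
  ⟨10, [],
   [(10, [], [0, 1, 2, 3, 4, 5, 6, 7, 8, 9, 10, 11])],
   []⟩]
theorem CT_ok : chainOK P12.n CT = true := by decide +kernel
abbrev T0 : Type := PE P12 (gens CT)
noncomputable def mkT (l : List ℕ) (h : (valb P12.n l && sift P12.n CT l) = true := by decide +kernel) : T0 :=
  PE.mk' l (PE.ex_of CT_ok rfl h)
noncomputable def TT_0_0 : T0 := mkT [0, 1, 2, 3, 4, 5, 6, 7, 8, 9, 10, 11]
noncomputable def TT_0_2 : T0 := mkT [2, 3, 0, 1, 4, 5, 6, 7, 8, 9, 10, 11]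
noncomputable def TT_0_3 : T0 := mkT [3, 2, 1, 0, 4, 5, 6, 7, 8, 9, 10, 11]
noncomputable def TT_0_1 : T0 := mkT [1, 0, 2, 3, 5, 4, 6, 7, 8, 9, 10, 11]
noncomputable def TT_1_3 : T0 := mkT [0, 1, 3, 2, 5, 4, 6, 7, 8, 9, 10, 11]
noncomputable def TT_2_8 : T0 := mkT [0, 1, 2, 3, 8, 9, 10, 11, 4, 5, 6, 7]
noncomputable def TT_2_6 : T0 := mkT [0, 1, 2, 3, 6, 7, 4, 5, 8, 9, 10, 11]
noncomputable def TT_2_9 : T0 := mkT [0, 1, 2, 3, 9, 8, 10, 11, 5, 4, 6, 7]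
noncomputable def TT_2_5 : T0 := mkT [0, 1, 2, 3, 5, 4, 6, 7, 9, 8, 10, 11]
noncomputable def TT_2_10 : T0 := mkT [0, 1, 2, 3, 10, 11, 8, 9, 4, 5, 6, 7]
noncomputable def TT_2_7 : T0 := mkT [0, 1, 2, 3, 7, 6, 4, 5, 9, 8, 10, 11]
noncomputable def TT_2_11 : T0 := mkT [0, 1, 2, 3, 11, 10, 8, 9, 5, 4, 6, 7]
noncomputable def TT_3_7 : T0 := mkT [0, 1, 2, 3, 4, 5, 7, 6, 9, 8, 10, 11]
noncomputable def TT_4_11 : T0 := mkT [0, 1, 2, 3, 4, 5, 6, 7, 11, 10, 9, 8]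
noncomputable def TT_4_10 : T0 := mkT [0, 1, 2, 3, 4, 5, 6, 7, 10, 11, 8, 9]
noncomputable def TT_4_9 : T0 := mkT [0, 1, 2, 3, 4, 5, 6, 7, 9, 8, 11, 10]
noncomputable def TT : List (List T0) := [[TT_0_0, TT_0_2, TT_0_3, TT_0_1],
  [TT_0_0, TT_1_3],
  [TT_0_0, TT_2_8, TT_2_6, TT_2_9, TT_2_5, TT_2_10, TT_2_7, TT_2_11],
  [TT_0_0, TT_3_7],
  [TT_0_0, TT_4_11, TT_4_10, TT_4_9],
  [TT_0_0]]
theorem TT_tr : PE.Tr TT := PE.tr_of CT_ok rfl (by decide +kernel)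
noncomputable instance enT : PE.Enm P12 (gens CT) := ⟨TT, TT_tr⟩
theorem hT : grp P12.n (gens CT) ≤ grp P12.n (gens CW) := PE.grp_le CW_ok rfl (by decide +kernel)
noncomputable def tb0 : T0 := mkT [2, 3, 0, 1, 4, 5, 6, 7, 8, 9, 10, 11]
noncomputable def tb1 : T0 := mkT [3, 2, 1, 0, 4, 5, 6, 7, 8, 9, 10, 11]
noncomputable def tb2 : T0 := mkT [0, 1, 2, 3, 6, 7, 4, 5, 8, 9, 10, 11]
noncomputable def tb3 : T0 := mkT [0, 1, 2, 3, 7, 6, 5, 4, 8, 9, 10, 11]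
noncomputable def tb4 : T0 := mkT [0, 1, 2, 3, 4, 5, 6, 7, 10, 11, 8, 9]
noncomputable def tb5 : T0 := mkT [0, 1, 2, 3, 4, 5, 6, 7, 11, 10, 9, 8]
noncomputable def x99 : W := mkW [0, 1, 2, 3, 4, 5, 7, 6, 8, 9, 11, 10]
noncomputable def x100 : W := mkW [0, 1, 2, 3, 4, 5, 7, 6, 9, 8, 10, 11]
noncomputable def x101 : W := mkW [0, 1, 2, 3, 5, 4, 6, 7, 8, 9, 11, 10]
noncomputable def x102 : W := mkW [0, 1, 2, 3, 8, 9, 11, 10, 4, 5, 7, 6]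
noncomputable def x103 : W := mkW [0, 1, 2, 3, 9, 8, 11, 10, 5, 4, 7, 6]
noncomputable def x104 : W := mkW [0, 1, 2, 3, 10, 11, 8, 9, 6, 7, 4, 5]
noncomputable def x105 : W := mkW [0, 1, 2, 3, 10, 11, 9, 8, 7, 6, 4, 5]
noncomputable def x106 : W := mkW [0, 1, 2, 3, 11, 10, 8, 9, 6, 7, 5, 4]
noncomputable def x107 : W := mkW [0, 1, 2, 3, 11, 10, 9, 8, 7, 6, 5, 4]
noncomputable def x108 : W := mkW [0, 1, 3, 2, 4, 5, 6, 7, 8, 9, 11, 10]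
noncomputable def x109 : W := mkW [0, 1, 3, 2, 4, 5, 7, 6, 8, 9, 10, 11]
noncomputable def x110 : W := mkW [0, 1, 3, 2, 4, 5, 7, 6, 9, 8, 11, 10]
noncomputable def x111 : W := mkW [0, 1, 3, 2, 4, 5, 7, 6, 10, 11, 8, 9]
noncomputable def x112 : W := mkW [0, 1, 3, 2, 4, 5, 7, 6, 11, 10, 9, 8]
noncomputable def x113 : W := mkW [0, 1, 3, 2, 5, 4, 6, 7, 9, 8, 11, 10]
noncomputable def x114 : W := mkW [0, 1, 3, 2, 5, 4, 6, 7, 10, 11, 8, 9]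
noncomputable def x115 : W := mkW [0, 1, 3, 2, 5, 4, 6, 7, 11, 10, 9, 8]
noncomputable def x116 : W := mkW [0, 1, 3, 2, 5, 4, 7, 6, 8, 9, 11, 10]
noncomputable def x117 : W := mkW [0, 1, 3, 2, 5, 4, 7, 6, 9, 8, 10, 11]
noncomputable def x118 : W := mkW [0, 1, 3, 2, 6, 7, 4, 5, 8, 9, 11, 10]
noncomputable def x119 : W := mkW [0, 1, 3, 2, 6, 7, 4, 5, 9, 8, 10, 11]
noncomputable def x120 : W := mkW [0, 1, 3, 2, 7, 6, 5, 4, 8, 9, 11, 10]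
noncomputable def x121 : W := mkW [0, 1, 3, 2, 7, 6, 5, 4, 9, 8, 10, 11]
noncomputable def x122 : W := mkW [1, 0, 2, 3, 4, 5, 6, 7, 8, 9, 11, 10]
noncomputable def x123 : W := mkW [1, 0, 2, 3, 4, 5, 7, 6, 8, 9, 10, 11]
noncomputable def x124 : W := mkW [1, 0, 2, 3, 4, 5, 7, 6, 9, 8, 11, 10]
noncomputable def x125 : W := mkW [1, 0, 2, 3, 4, 5, 7, 6, 10, 11, 8, 9]
noncomputable def x126 : W := mkW [1, 0, 2, 3, 4, 5, 7, 6, 11, 10, 9, 8]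
noncomputable def x127 : W := mkW [1, 0, 2, 3, 5, 4, 6, 7, 9, 8, 11, 10]
noncomputable def x128 : W := mkW [1, 0, 2, 3, 5, 4, 6, 7, 10, 11, 8, 9]
noncomputable def x129 : W := mkW [1, 0, 2, 3, 5, 4, 6, 7, 11, 10, 9, 8]
noncomputable def x130 : W := mkW [1, 0, 2, 3, 5, 4, 7, 6, 8, 9, 11, 10]
noncomputable def x131 : W := mkW [1, 0, 2, 3, 5, 4, 7, 6, 9, 8, 10, 11]
noncomputable def x132 : W := mkW [1, 0, 2, 3, 6, 7, 4, 5, 8, 9, 11, 10]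
noncomputable def x133 : W := mkW [1, 0, 2, 3, 6, 7, 4, 5, 9, 8, 10, 11]
noncomputable def x134 : W := mkW [1, 0, 2, 3, 7, 6, 5, 4, 8, 9, 11, 10]
noncomputable def x135 : W := mkW [1, 0, 2, 3, 7, 6, 5, 4, 9, 8, 10, 11]
noncomputable def x136 : W := mkW [1, 0, 3, 2, 4, 5, 7, 6, 8, 9, 11, 10]
noncomputable def x137 : W := mkW [1, 0, 3, 2, 4, 5, 7, 6, 9, 8, 10, 11]
noncomputable def x138 : W := mkW [1, 0, 3, 2, 5, 4, 6, 7, 8, 9, 11, 10]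
noncomputable def x139 : W := mkW [1, 0, 3, 2, 5, 4, 6, 7, 9, 8, 10, 11]
noncomputable def x140 : W := mkW [1, 0, 3, 2, 8, 9, 10, 11, 4, 5, 6, 7]
noncomputable def x141 : W := mkW [1, 0, 3, 2, 8, 9, 11, 10, 4, 5, 7, 6]
noncomputable def x142 : W := mkW [1, 0, 3, 2, 9, 8, 10, 11, 5, 4, 6, 7]
noncomputable def x143 : W := mkW [1, 0, 3, 2, 9, 8, 11, 10, 5, 4, 7, 6]
noncomputable def x144 : W := mkW [1, 0, 3, 2, 10, 11, 8, 9, 6, 7, 4, 5]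
noncomputable def x145 : W := mkW [1, 0, 3, 2, 10, 11, 9, 8, 7, 6, 4, 5]
noncomputable def x146 : W := mkW [1, 0, 3, 2, 11, 10, 8, 9, 6, 7, 5, 4]
noncomputable def x147 : W := mkW [1, 0, 3, 2, 11, 10, 9, 8, 7, 6, 5, 4]
noncomputable def x148 : W := mkW [2, 3, 0, 1, 4, 5, 7, 6, 8, 9, 11, 10]
noncomputable def x149 : W := mkW [2, 3, 0, 1, 4, 5, 7, 6, 9, 8, 10, 11]
noncomputable def x150 : W := mkW [2, 3, 0, 1, 5, 4, 6, 7, 8, 9, 11, 10]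
noncomputable def x151 : W := mkW [2, 3, 0, 1, 5, 4, 6, 7, 9, 8, 10, 11]
noncomputable def x152 : W := mkW [2, 3, 0, 1, 8, 9, 10, 11, 4, 5, 6, 7]
noncomputable def x153 : W := mkW [2, 3, 0, 1, 8, 9, 11, 10, 4, 5, 7, 6]
noncomputable def x154 : W := mkW [2, 3, 0, 1, 9, 8, 10, 11, 5, 4, 6, 7]
noncomputable def x155 : W := mkW [2, 3, 0, 1, 9, 8, 11, 10, 5, 4, 7, 6]
noncomputable def x156 : W := mkW [2, 3, 0, 1, 10, 11, 8, 9, 6, 7, 4, 5]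
noncomputable def x157 : W := mkW [2, 3, 0, 1, 10, 11, 9, 8, 7, 6, 4, 5]
noncomputable def x158 : W := mkW [2, 3, 0, 1, 11, 10, 8, 9, 6, 7, 5, 4]
noncomputable def x159 : W := mkW [2, 3, 0, 1, 11, 10, 9, 8, 7, 6, 5, 4]
noncomputable def x160 : W := mkW [3, 2, 1, 0, 4, 5, 7, 6, 8, 9, 11, 10]
noncomputable def x161 : W := mkW [3, 2, 1, 0, 4, 5, 7, 6, 9, 8, 10, 11]
noncomputable def x162 : W := mkW [3, 2, 1, 0, 5, 4, 6, 7, 8, 9, 11, 10]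
noncomputable def x163 : W := mkW [3, 2, 1, 0, 5, 4, 6, 7, 9, 8, 10, 11]
noncomputable def x164 : W := mkW [3, 2, 1, 0, 8, 9, 10, 11, 4, 5, 6, 7]
noncomputable def x165 : W := mkW [3, 2, 1, 0, 8, 9, 11, 10, 4, 5, 7, 6]
noncomputable def x166 : W := mkW [3, 2, 1, 0, 9, 8, 10, 11, 5, 4, 6, 7]
noncomputable def x167 : W := mkW [3, 2, 1, 0, 9, 8, 11, 10, 5, 4, 7, 6]
noncomputable def x168 : W := mkW [3, 2, 1, 0, 10, 11, 8, 9, 6, 7, 4, 5]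
noncomputable def x169 : W := mkW [3, 2, 1, 0, 10, 11, 9, 8, 7, 6, 4, 5]
noncomputable def x170 : W := mkW [3, 2, 1, 0, 11, 10, 8, 9, 6, 7, 5, 4]
noncomputable def x171 : W := mkW [3, 2, 1, 0, 11, 10, 9, 8, 7, 6, 5, 4]
noncomputable def IL : List W := [x99, x100, x101, e24, c23, x102, x32, x103, x104, x105, x106, x107, x108, e14, x109, x110, x111, x112, e12, x113, x114, x115, x116, x117, x118, x119, x120, x121, x122, e04, x123, x124, x125, x126, e02, x127, x128, x129, x130, x131, x132, x133, x134, x135, x136, x137, x138, x139, x140, x141, x142, x143, x144, x145, x146, x147, x148, x149, x150, x151, x152, x153, x154, x155, x156, x157, x158, x159, x160, x161, x162, x163, x164, x165, x166, x167, x168, x169, x170, x171]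
theorem jmul : ∀ m < 64, ∀ n < 64, jP m * jP n = jP (m ^^^ n) :=
  by decide +kernel

theorem jinj : ∀ m < 64, jP m = 1 → m = 0 :=
  by decide +kernel

theorem jPq : ∀ m < 64, jP m = jq bas m ∧ ty (jP m) = tyM m :=
  by decide +kernel

theorem basT : ∀ a ∈ bas, ∃ t ∈ [tb0, tb1, tb2, tb3, tb4, tb5], PE.incl hT t = a :=
  by decide +kernel

theorem cI : ∀ t : T0, t * t = 1 → PE.incl hT t ∈ JL ++ IL :=
  by decide +kernel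

theorem cI2 : ∀ a ∈ IL, ((JL ++ IL).filter fun x => a * x = x * a ∧ x ≠ jP 1).length < 64 ∧
    ((JL ++ IL).filter fun x => a * x = x * a ∧ x * jP 1 = jP 1 * x).length < 64 :=
  by decide +kernel

theorem full : ∀ a : W, a * a ≠ jP 63 ∧ (∀ u ∈ wL, a * u * a⁻¹ * u = u * (a * u * a⁻¹)) ∧ (a * a = 1 → ∃ h ∈ K15,
    mk (h * a * h⁻¹) < 64 ∧ h * a = jP (mk (h * a * h⁻¹)) * h ∧ ty a = tyM (mk (h * a * h⁻¹))) :=
  by decide +kernel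

theorem gsTop : (gens CW).all (fun s => gs.any fun a => Nat.beq a.v (P12.cf (app s))) = true :=
  by decide +kernel

theorem cJ : ∀ c : W, (∀ u ∈ bas, c * u = u * c) → ∃ m < 64, c = jP m :=
  TW_tr.cen bas [[(2, [(0, 0), (1, 1)]), (3, [(0, 0), (1, 1)]), (4, [(0, 0), (1, 1)]), (5, [(0, 0), (1, 1)])], [(0, [(0, 2), (1, 3), (2, 0), (3, 1)]), (1, [(0, 3), (1, 2), (2, 1), (3, 0)]), (2, [(2, 2), (3, 3)]), (3, [(2, 2), (3, 3)]), (4, [(2, 2), (3, 3)]), (5, [(2, 2), (3, 3)])], [(0, [(4, 4), (5, 5)]), (1, [(4, 4), (5, 5)]), (4, [(4, 4), (5, 5)]), (5, [(4, 4), (5, 5)])], [(0, [(6, 6), (7, 7)]), (1, [(6, 6), (7, 7)]), (2, [(4, 6), (5, 7), (6, 4), (7, 5)]), (3, [(4, 7), (5, 6), (6, 5), (7, 4)]), (4, [(6, 6), (7, 7)]), (5, [(6, 6), (7, 7)])], [(0, [(8, 8), (9, 9), (10, 10), (11, 11)]), (1, [(8, 8), (9, 9), (10, 10), (11, 11)]), (2, [(8, 8), (9,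 9), (10, 10), (11, 11)]), (3, [(8, 8), (9, 9), (10, 10), (11, 11)]), (4, [(8, 10), (9, 11), (10, 8), (11, 9)]), (5, [(8, 11), (9, 10), (10, 9), (11, 8)])]] (by decide +kernel)

theorem cZ : ∀ c : W, (∀ u ∈ gs, c * u = u * c) → c = 1 ∨ c = jP 63 :=
  TW_tr.cen gs [[(2, [(0, 0), (1, 1)]), (3, [(0, 0), (1, 1)]), (4, [(0, 0), (1, 1)]), (5, [(0, 0), (1, 1)])], [(0, [(0, 3), (1, 2), (2, 1), (3, 0)]), (1, [(0, 2), (1, 3), (2, 0), (3, 1)]), (3, [(2, 2), (3, 3)]), (4, [(2, 2), (3, 3)]), (5, [(2, 2), (3, 3)])], [(0, [(4, 4), (5, 5)]), (1, [(4, 4), (5, 5)]), (2, [(2, 4), (3, 5), (4, 2), (5, 3)]), (4, [(4, 4), (5, 5)]), (5, [(4, 4), (5, 5)])], [(0, [(6, 6), (7, 7)]), (1, [(6, 6), (7, 7)]), (2, [(6, 6), (7, 7)]), (3, [(4, 6), (5, 7), (6, 4), (7, 5)]), (5, [(6, 6), (7, 7)])], [(0, [(8, 8), (9, 9), (10, 10), (11, 11)]), (1, [(8, 8), (9, 9), (10,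 10), (11, 11)]), (2, [(8, 8), (9, 9), (10, 10), (11, 11)]), (3, [(8, 8), (9, 9), (10, 10), (11, 11)]), (4, [(6, 8), (7, 9), (8, 6), (9, 7), (10, 10), (11, 11)]), (5, [(8, 10), (9, 11), (10, 8), (11, 9)])]] (by decide +kernel)

theorem cW : ∀ c : W, (∀ u ∈ wL, c * u = u * c) → c * c * (c * c) = 1 :=
  TW_tr.cen wL [[(0, [(0, 1), (1, 0)]), (1, [(0, 0), (1, 1)]), (2, [(0, 0), (1, 1)])], [(0, [(2, 3), (3, 2)]), (1, [(2, 2), (3, 3)]), (2, [(2, 2), (3, 3)])], [(0, [(4, 4), (5, 5)]), (1, [(4, 5), (5, 4)]), (2, [(4, 4), (5, 5)])], [(0, [(6, 6), (7, 7)]), (1, [(6, 7), (7, 6)]), (2, [(6, 6), (7, 7)])], [(0, [(8, 8), (9, 9), (10, 10), (11, 11)]), (1, [(8, 8), (9, 9), (10, 10), (11, 11)]), (2, [(8, 9), (9, 8), (10, 11), (11, 10)])]] (by decide +kernel)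

theorem cP0 : ∀ c : W, (∀ u ∈ [jP 1], c * u = u * c) → c * jP 2 = jP 2 * c :=
  TW_tr.cen [jP 1] [[], [(0, [(0, 2), (1, 3), (2, 0), (3, 1)])], [(0, [(4, 4), (5, 5)])], [(0, [(6, 6), (7, 7)])], [(0, [(8, 8), (9, 9), (10, 10), (11, 11)])]] (by decide +kernel)

theorem cP1 : ∀ c : W, (∀ u ∈ [jP 2], c * u = u * c) → c * jP 1 = jP 1 * c :=
  TW_tr.cen [jP 2] [[], [(0, [(0, 3), (1, 2), (2, 1), (3, 0)])], [(0, [(4, 4), (5, 5)])], [(0, [(6, 6), (7, 7)])], [(0, [(8, 8), (9, 9), (10, 10), (11, 11)])]] (by decide +kernel)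

theorem cP2 : ∀ c : W, (∀ u ∈ [jP 4], c * u = u * c) → c * jP 8 = jP 8 * c :=
  TW_tr.cen [jP 4] [[(0, [(0, 0), (1, 1)])], [(0, [(2, 2), (3, 3)])], [], [(0, [(4, 6), (5, 7), (6, 4), (7, 5)])], [(0, [(8, 8), (9, 9), (10, 10), (11, 11)])]] (by decide +kernel)

theorem cP3 : ∀ c : W, (∀ u ∈ [jP 8], c * u = u * c) → c * jP 4 = jP 4 * c :=
  TW_tr.cen [jP 8] [[(0, [(0, 0), (1, 1)])], [(0, [(2, 2), (3, 3)])], [], [(0, [(4, 7), (5, 6), (6, 5), (7, 4)])], [(0, [(8, 8), (9, 9), (10, 10), (11, 11)])]] (by decide +kernel)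

theorem cP4 : ∀ c : W, (∀ u ∈ [jP 16], c * u = u * c) → c * jP 32 = jP 32 * c :=
  TW_tr.cen [jP 16] [[(0, [(0, 0), (1, 1)])], [(0, [(2, 2), (3, 3)])], [(0, [(4, 4), (5, 5)])], [(0, [(6, 6), (7, 7)])], [(0, [(8, 10), (9, 11), (10, 8), (11, 9)])]] (by decide +kernel)

theorem cP5 : ∀ c : W, (∀ u ∈ [jP 32], c * u = u * c) → c * jP 16 = jP 16 * c :=
  TW_tr.cen [jP 32] [[(0, [(0, 0), (1, 1)])], [(0, [(2, 2), (3, 3)])], [(0, [(4, 4), (5, 5)])], [(0, [(6, 6), (7, 7)])], [(0, [(8, 11), (9, 10), (10, 9), (11, 8)])]] (by decide +kernel)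

theorem cls : ∀ m < 64, cl m < 11 ∧ ∃ h ∈ NL, h * jP (nth 0 reps (cl m)) = jP m * h :=
  by decide +kernel

theorem sq : ∀ m ∈ [0, 3, 5, 15], ∃ h ∈ SQ, h * h = jP m :=
  by decide +kernel

theorem rfl1 : ∀ h ∈ K15, ∀ m ∈ sL, h⁻¹ * jP m * h ∈ Refl :=
  by decide +kernel

theorem rfl2 : ∀ r ∈ Refl, ∃ h ∈ HL, h * jP 32 = r * h :=
  by decide +kernel

theorem sN : ∀ m ∈ sL, ∃ h ∈ NL, h * jP 16 = jP m * h :=
  by decide +kernel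

theorem s2 : ∀ r ∈ Refl, r * jP 16 = jP 16 * r → (∀ i ∈ [1, 2, 4, 8], r * jP i ≠ jP i * r) → ∃ m < 16, jP m * r = g2 * jP m :=
  by decide +kernel

theorem sK : ∀ p ∈ [1, 2, 4, 8], ∃ h ∈ K4, h * jP p = jP 8 * h ∧ h * g2 = g2 * h ∧ h * jP 16 = jP 16 * h ∧ h * jP 32 = jP 32 * h :=
  by decide +kernel

theorem no5 : ∀ c : W, (∀ e ∈ [(jP 3, jP 5)], c * e.1 = e.2 * c) → False :=
  TW_tr.all _ [[(0, [(0, 1), (1, 0)])], [(0, [(2, 3), (3, 2)])], [(0, [(4, 4), (5, 5)])], [(0, [(6, 6), (7, 7)])], [(0, [(8, 8), (9, 9), (10, 10), (11, 11)])]] (by decide +kernel)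

theorem no6 : ∀ c : W, (∀ e ∈ [(jP 3, jP 6)], c * e.1 = e.2 * c) → False :=
  TW_tr.all _ [[(0, [(0, 1), (1, 0)])], [(0, [(2, 3), (3, 2)])], [(0, [(4, 4), (5, 5)])], [(0, [(6, 6), (7, 7)])], [(0, [(8, 8), (9, 9), (10, 10), (11, 11)])]] (by decide +kernel)

theorem s3 : ∀ x ∈ Refl, x * jP 2 = jP 2 * x → x * jP 1 = jP 1 * x → x * jP 16 ≠ jP 16 * x →
    x * q12 = q12 * x ∨ jP 4 * x * (jP 4)⁻¹ * q12 = q12 * (jP 4 * x * (jP 4)⁻¹) :=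
  by decide +kernel

theorem s4 : ∀ r ∈ Refl, r * jP 48 = jP 48 * r → r = jP 16 ∨ r = jP 32 ∨ ∃ h ∈ HW, h * jP 48 = jP 48 * h ∧ h * r = jP 1 * h :=
  by decide +kernel

theorem a2 : ∀ c : W, (∀ u ∈ [jP 3, jP 1], c * u = u * c) → c * c = 1 → (∀ i ∈ [4, 8, 16, 32], c * jP i * (c * jP i) * (c * jP i) = 1) →
    ∃ m < 16, jP (4 * m) * c = g4 * jP (4 * m) :=
  TW_tr.cen [jP 3, jP 1] [[(0, [(0, 1), (1, 0)])], [(0, [(2, 3), (3, 2)]), (1, [(0, 2), (1, 3), (2, 0), (3, 1)])], [(0, [(4, 4), (5, 5)]), (1, [(4, 4), (5, 5)])], [(0, [(6, 6), (7, 7)]), (1, [(6, 6), (7, 7)])], [(0, [(8, 8), (9, 9), (10, 10), (11, 11)]), (1, [(8, 8), (9, 9), (10, 10), (11, 11)])]] (by decide +kernel)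

noncomputable def lF : List W := [jP 15, jP 5, c12, jP 16, jP 32]
theorem cF : ∀ c : W, (∀ u ∈ lF, c * u = u * c) → ∃ m < 32, c = jq lF m :=
  TW_tr.cen lF [[(0, [(0, 1), (1, 0)]), (3, [(0, 0), (1, 1)]), (4, [(0, 0), (1, 1)])], [(0, [(2, 3), (3, 2)]), (1, [(0, 2), (1, 3), (2, 0), (3, 1)]), (3, [(2, 2), (3, 3)]), (4, [(2, 2), (3, 3)])], [(0, [(4, 5), (5, 4)]), (2, [(0, 4), (1, 5), (4, 0), (5, 1)]), (3, [(4, 4), (5, 5)]), (4, [(4, 4), (5, 5)])], [(0, [(6, 7), (7, 6)]), (1, [(4, 6), (5, 7), (6, 4), (7, 5)]), (2, [(2, 6), (3, 7), (6, 2), (7, 3)]), (3, [(6, 6), (7, 7)]), (4, [(6, 6), (7, 7)])], [(0, [(8, 8), (9, 9), (10, 10), (11, 11)]), (1, [(8, 8), (9, 9), (10, 10), (11, 11)]), (2, [(8, 8), (9, 9), (10, 10), (11, 11)]), (3, [(8, 10), (9, 11), (10, 8), (11, 9)]), (4, [(8, 11), (9, 10), (10, 9), (11, 8)])]] (by decide +kernel)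

noncomputable def lE : List W := [jP 60, jP 12, e24]
noncomputable def l2 : List W := [jP 60, jP 8]
/-- the checks on the centralizer of a subgroup containing `z` -/
abbrev FQ (lf : List W) (c : W) : Prop := c * c * (c * c) = 1 ∧ (ty (c * c * jP 60) = 12 → c * c = jP 3) ∧
  (c * jP 2 * c⁻¹ = jP 2 ∨ c * jP 2 * c⁻¹ = jP 3 * jP 2) ∧
  (c * jP 2 = jP 2 * c → c * c = 1 ∧ ∃ f ∈ lf, c * f = 1 ∨ c * f = jP 3 ∨ c * f = jP 2 ∨ c * f = jP 3 * jP 2) ∧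
  (c * c = 1 → ty c = 4 → ty (c * jP 60) = 12 → c = 1 ∨ c = jP 3 ∨ c = jP 2 ∨ c = jP 3 * jP 2)
noncomputable def fE : List W := (List.range 8).map (jq lE)
noncomputable def f2 : List W := (List.range 16).map fun m => jP (4 * m)
theorem qE : ∀ c : W, (∀ u ∈ lE, c * u = u * c) → FQ fE c :=
  TW_tr.cen lE [[(0, [(0, 0), (1, 1)]), (1, [(0, 0), (1, 1)]), (2, [(0, 0), (1, 1)])], [(0, [(2, 2), (3, 3)]), (1, [(2, 2), (3, 3)]), (2, [(2, 2), (3, 3)])], [(0, [(4, 5), (5, 4)]), (1, [(4, 5), (5, 4)]), (2, [(4, 5), (5, 4)])], [(0, [(6, 7), (7, 6)]), (1, [(6, 7), (7, 6)]), (2, [(6, 6), (7, 7)])], [(0, [(8, 9), (9, 8), (10, 11), (11, 10)]), (1, [(8, 8), (9, 9), (10, 10), (11, 11)]), (2, [(8, 9), (9, 8), (10, 10), (11, 11)])]] (by decide +kernel)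

theorem q2 : ∀ c : W, (∀ u ∈ l2, c * u = u * c) → FQ f2 c :=
  TW_tr.cen l2 [[(0, [(0, 0), (1, 1)]), (1, [(0, 0), (1, 1)])], [(0, [(2, 2), (3, 3)]), (1, [(2, 2), (3, 3)])], [(0, [(4, 5), (5, 4)])], [(0, [(6, 7), (7, 6)]), (1, [(4, 7), (5, 6), (6, 5), (7, 4)])], [(0, [(8, 9), (9, 8), (10, 11), (11, 10)]), (1, [(8, 8), (9, 9), (10, 10), (11, 11)])]] (by decide +kernel)

theorem cz : ∀ c : W, (∀ u ∈ [jP 60], c * u = u * c) → c * c = 1 → ty c = 12 → c = jP 63 ∨ ty (c * jP 60) = 12 ∨ ty (jP 63 * c * jP 60) = 12 ∨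
    ∃ h ∈ HZ, h * jP 60 = jP 60 * h ∧ h * jP 8 = jP 63 * c * h :=
  TW_tr.cen [jP 60] [[(0, [(0, 0), (1, 1)])], [(0, [(2, 2), (3, 3)])], [(0, [(4, 5), (5, 4)])], [(0, [(6, 7), (7, 6)])], [(0, [(8, 9), (9, 8), (10, 11), (11, 10)])]] (by decide +kernel)

theorem cw : ∀ c : W, (∀ u ∈ [jP 3], c * u = u * c) → c * c = 1 → (ty c = 12 ∧ ty (c * jP 3) = 8 ∨ ty c = 8 ∧ ty (c * jP 3) = 4) →
    c = jP 63 ∨ ty (jP 63 * c) = 8 ∨ ty (jP 63 * c * jP 3) = 8 :=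
  TW_tr.cen [jP 3] [[(0, [(0, 1), (1, 0)])], [(0, [(2, 3), (3, 2)])], [(0, [(4, 4), (5, 5)])], [(0, [(6, 6), (7, 7)])], [(0, [(8, 8), (9, 9), (10, 10), (11, 11)])]] (by decide +kernel)

end CF.Yo
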